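set_option autoImplicit false
namespace Cfsg.Agent.Lib.Helper6.TCD.Y422aL
noncomputable def HL4L0 (i : Nat) : Nat := Nat.land (Nat.shiftRight 0x9310000000000000000000000000000000000000000000000000000000000000000000000000000000000000000000000000000000000000000000000000000000000000000000000000000000000000000000000000000000000000000000000000000000000000000000000000000000000000000000000000000000000000000000000000000000000000000000000000000000000000000000000000000000000000000000000000000000000000000000000000000000000000000000000000000000000000000000000000000000000000000000000000000000000000000000000000000000000000000000000000000000000000000000000000000000000000000000000000000000000000000000000000000000000000000000000000000000000000000000000000000000000000000000000000000000000000008310000000000000000000000000000000000000000000000000000000000000008110000000000000000000000000000000000000000000000000000000000000000000000000000000000000000000000000000000000000000000000000000000000000000000000000000000000000000000000000000000000000000000000000000000000000000000000000000000000000000000000000000000000000000000000000000000000000000000000000000000000000000000000000000000000000000000000000000000000000000000000000000000000000000000000000000000000000000000000000000000000000000000000000000000000000000000000000000000000000000000000000000000000000007310000000000000000000000000000000000000007110000000000000000000000000000000000000007210000000000000000000000000000000000000000000000000000000000000000000000000000000000000000000000000000000000000000000000000000000000000000000000000000000000000000000000000000000000000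00000000000000000000000000000000000000000000000000000000000000000000000000000000000000000000000000000000000000000000000000000000000000000000000000000000000000000000000000000000000000000000000000000000000000000000631000000000000000611000000000000000000000621000000000000000000000621000601000000000000000000000000000000000000000000000000000000000000000000000000000000000000000000000000000000000000000000000000000000000000000000000000000000000000000000000000000000000000000000000000000000000000000000000000000000000000000000000000000000000000000000000000000000000000000000000000000000000000000000000511000000000521000000000521000501000000000511000000000000000000000000000000000000000000000000000000000000000000000000000000000000000000000000000000000000000000000000000000000000000000000000000000000000000000000000000000000000000000000000000000000000000000000000000000000000000421000421000401000411000000000431000000000000000000000000000000000000000000000000000000000000000000000000000000000000000000000000000000000000000000000000000000000000000000000000000000000000000321000301000311000331000000000301000000000000000000000000000000000000000000000000000000000000000000000000000000000000000000000000000000000000000000000211000231000211000000000000000000000000000000000000000000000000000000000000000000000000000000000000000000000000000131000121000000000000000000000000000000000000000000000000000000000000000000000000000001000000000000000000000000000000000000000000000000000000000000000000000000000000000000000000000000000000000000000000000000000000000000000000000000000000000000000000000000000000000000000000000000000000000000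 (Nat.mul 24 (Nat.land i 1023))) 16777215
noncomputable def HL4L1 (i : Nat) : Nat := Nat.land (Nat.shiftRight 0x0 (Nat.mul 24 (Nat.land i 1023))) 16777215
noncomputable def HL4 (i : Nat) : Nat := Bool.rec (HL4L0 i) (HL4L1 i) (Nat.ble 1024 i)
end Cfsg.Agent.Lib.Helper6.TCD.Y422aL
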