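set_option autoImplicit false
namespace Cfsg.Agent.Lib.Helper6.TCD.Y422aL
noncomputable def HL6L0 (i : Nat) : Nat := Nat.land (Nat.shiftRight 0x101000001000000000000000000000000 (Nat.mul 24 (Nat.land i 1023))) 16777215
noncomputable def HL6L1 (i : Nat) : Nat := Nat.land (Nat.shiftRight 0x0 (Nat.mul 24 (Nat.land i 1023))) 16777215
noncomputable def HL6 (i : Nat) : Nat := Bool.rec (HL6L0 i) (HL6L1 i) (Nat.ble 1024 i)
end Cfsg.Agent.Lib.Helper6.TCD.Y422aL
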