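import Cfsg.Agent.Lib.Helper6.TCD.Y422a.Par
import Cfsg.Agent.Lib.Helper6.TCD.Y422aL.HL0
import Cfsg.Agent.Lib.Helper6.TCD.Y422aL.HL1
import Cfsg.Agent.Lib.Helper6.TCD.Y422aL.HL2
import Cfsg.Agent.Lib.Helper6.TCD.Y422aL.HL3
import Cfsg.Agent.Lib.Helper6.TCD.Y422aL.HL4
import Cfsg.Agent.Lib.Helper6.TCD.Y422aL.HL5
import Cfsg.Agent.Lib.Helper6.TCD.Y422aL.HL6
set_option autoImplicit false
set_option maxRecDepth 100000
namespace Cfsg.Agent.Lib.Helper6.TCD.Y422aL
open Cfsg.Agent.Lib.Helper6.TCD.Y422a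
noncomputable def WL0_0 (p : Nat) : Nat := P0 p
noncomputable def WL0_1 (p : Nat) : Nat := P1 p
noncomputable def WL0_2 (p : Nat) : Nat := P2 p
noncomputable def WL0_3 (p : Nat) : Nat := P3 p
noncomputable def WL0_4 (p : Nat) : Nat := P4 p
noncomputable def WL0_5 (p : Nat) : Nat := P5 p
noncomputable def WL0_6 (p : Nat) : Nat := P6 p
noncomputable def WL0_7 (p : Nat) : Nat := P7 p
noncomputable def WL0_8 (p : Nat) : Nat := P8 p
/-- the words of level 0 -/
def wsL0 : List (List Nat) := [[0], [1], [2], [3], [4], [5], [6], [7], [8]]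
noncomputable def hselL0 (c p : Nat) : Nat := Nat.rec (motive := fun _ => Nat) (WL0_0 p) (fun k0 _ => Nat.rec (motive := fun _ => Nat) (WL0_1 p) (fun k1 _ => Nat.rec (motive := fun _ => Nat) (WL0_2 p) (fun k2 _ => Nat.rec (motive := fun _ => Nat) (WL0_3 p) (fun k3 _ => Nat.rec (motive := fun _ => Nat) (WL0_4 p) (fun k4 _ => Nat.rec (motive := fun _ => Nat) (WL0_5 p) (fun k5 _ => Nat.rec (motive := fun _ => Nat) (WL0_6 p) (fun k6 _ => Nat.rec (motive := fun _ => Nat) (WL0_7 p) (fun k7 _ => WL0_8 p) k6) k5) k4) k3) k2) k1) k0) c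
noncomputable def labL0 (p : Nat) : Nat := Nat.land (HL0 p) 15
noncomputable def rnkL0 (p : Nat) : Nat := Nat.shiftRight (HL0 p) 8
noncomputable def mvL0 (p : Nat) : Nat := hselL0 (Nat.land (Nat.shiftRight (HL0 p) 4) 15) p
noncomputable def WL1_0 (p : Nat) : Nat := P0 p
noncomputable def WL1_1 (p : Nat) : Nat := P1 p
noncomputable def WL1_2 (p : Nat) : Nat := P2 p
noncomputable def WL1_3 (p : Nat) : Nat := P3 p
noncomputable def WL1_4 (p : Nat) : Nat := P4 p
noncomputable def WL1_5 (p : Nat) : Nat := P5 p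
noncomputable def WL1_6 (p : Nat) : Nat := P6 p
noncomputable def WL1_7 (p : Nat) : Nat := P7 p
/-- the words of level 1 -/
def wsL1 : List (List Nat) := [[0], [1], [2], [3], [4], [5], [6], [7]]
noncomputable def hselL1 (c p : Nat) : Nat := Nat.rec (motive := fun _ => Nat) (WL1_0 p) (fun k0 _ => Nat.rec (motive := fun _ => Nat) (WL1_1 p) (fun k1 _ => Nat.rec (motive := fun _ => Nat) (WL1_2 p) (fun k2 _ => Nat.rec (motive := fun _ => Nat) (WL1_3 p) (fun k3 _ => Nat.rec (motive := fun _ => Nat) (WL1_4 p) (fun k4 _ => Nat.rec (motive := fun _ => Nat) (WL1_5 p) (fun k5 _ => Nat.rec (motive := fun _ => Nat) (WL1_6 p) (fun k6 _ => WL1_7 p) k5) k4) k3) k2) k1) k0) c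
noncomputable def labL1 (p : Nat) : Nat := Nat.land (HL1 p) 15
noncomputable def rnkL1 (p : Nat) : Nat := Nat.shiftRight (HL1 p) 8
noncomputable def mvL1 (p : Nat) : Nat := hselL1 (Nat.land (Nat.shiftRight (HL1 p) 4) 15) p
noncomputable def WL2_0 (p : Nat) : Nat := P1 p
noncomputable def WL2_1 (p : Nat) : Nat := P2 p
noncomputable def WL2_2 (p : Nat) : Nat := P3 p
noncomputable def WL2_3 (p : Nat) : Nat := P4 p
noncomputable def WL2_4 (p : Nat) : Nat := P5 p
noncomputable def WL2_5 (p : Nat) : Nat := P6 p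
noncomputable def WL2_6 (p : Nat) : Nat := P7 p
/-- the words of level 2 -/
def wsL2 : List (List Nat) := [[1], [2], [3], [4], [5], [6], [7]]
noncomputable def hselL2 (c p : Nat) : Nat := Nat.rec (motive := fun _ => Nat) (WL2_0 p) (fun k0 _ => Nat.rec (motive := fun _ => Nat) (WL2_1 p) (fun k1 _ => Nat.rec (motive := fun _ => Nat) (WL2_2 p) (fun k2 _ => Nat.rec (motive := fun _ => Nat) (WL2_3 p) (fun k3 _ => Nat.rec (motive := fun _ => Nat) (WL2_4 p) (fun k4 _ => Nat.rec (motive := fun _ => Nat) (WL2_5 p) (fun k5 _ => WL2_6 p) k4) k3) k2) k1) k0) c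
noncomputable def labL2 (p : Nat) : Nat := Nat.land (HL2 p) 15
noncomputable def rnkL2 (p : Nat) : Nat := Nat.shiftRight (HL2 p) 8
noncomputable def mvL2 (p : Nat) : Nat := hselL2 (Nat.land (Nat.shiftRight (HL2 p) 4) 15) p
noncomputable def WL3_0 (p : Nat) : Nat := P2 p
noncomputable def WL3_1 (p : Nat) : Nat := P3 p
noncomputable def WL3_2 (p : Nat) : Nat := P4 p
noncomputable def WL3_3 (p : Nat) : Nat := P5 p
noncomputable def WL3_4 (p : Nat) : Nat := P6 p
noncomputable def WL3_5 (p : Nat) : Nat := P7 p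
/-- the words of level 3 -/
def wsL3 : List (List Nat) := [[2], [3], [4], [5], [6], [7]]
noncomputable def hselL3 (c p : Nat) : Nat := Nat.rec (motive := fun _ => Nat) (WL3_0 p) (fun k0 _ => Nat.rec (motive := fun _ => Nat) (WL3_1 p) (fun k1 _ => Nat.rec (motive := fun _ => Nat) (WL3_2 p) (fun k2 _ => Nat.rec (motive := fun _ => Nat) (WL3_3 p) (fun k3 _ => Nat.rec (motive := fun _ => Nat) (WL3_4 p) (fun k4 _ => WL3_5 p) k3) k2) k1) k0) c
noncomputable def labL3 (p : Nat) : Nat := Nat.land (HL3 p) 15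
noncomputable def rnkL3 (p : Nat) : Nat := Nat.shiftRight (HL3 p) 8
noncomputable def mvL3 (p : Nat) : Nat := hselL3 (Nat.land (Nat.shiftRight (HL3 p) 4) 15) p
noncomputable def WL4_0 (p : Nat) : Nat := P2 p
noncomputable def WL4_1 (p : Nat) : Nat := P3 p
noncomputable def WL4_2 (p : Nat) : Nat := P4 p
noncomputable def WL4_3 (p : Nat) : Nat := P6 p
noncomputable def WL4_4 (p : Nat) : Nat := P7 (P6 (P3 (P2 (P4 (P3 (P5 (P4 (P6 (P7 (P3 (P6 (P2 (P3 (P4 (P5 p)))))))))))))))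
/-- the words of level 4 -/
def wsL4 : List (List Nat) := [[2], [3], [4], [6], [5, 4, 3, 2, 6, 3, 7, 6, 4, 5, 3, 4, 2, 3, 6, 7]]
noncomputable def hselL4 (c p : Nat) : Nat := Nat.rec (motive := fun _ => Nat) (WL4_0 p) (fun k0 _ => Nat.rec (motive := fun _ => Nat) (WL4_1 p) (fun k1 _ => Nat.rec (motive := fun _ => Nat) (WL4_2 p) (fun k2 _ => Nat.rec (motive := fun _ => Nat) (WL4_3 p) (fun k3 _ => WL4_4 p) k2) k1) k0) c
noncomputable def labL4 (p : Nat) : Nat := Nat.land (HL4 p) 15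
noncomputable def rnkL4 (p : Nat) : Nat := Nat.shiftRight (HL4 p) 8
noncomputable def mvL4 (p : Nat) : Nat := hselL4 (Nat.land (Nat.shiftRight (HL4 p) 4) 15) p
noncomputable def WL5_0 (p : Nat) : Nat := P2 p
noncomputable def WL5_1 (p : Nat) : Nat := P3 p
noncomputable def WL5_2 (p : Nat) : Nat := P4 (P3 (P2 (P7 (P6 (P3 (P2 (P4 (P3 (P5 (P4 (P6 (P7 (P3 (P6 (P2 (P3 (P4 (P5 (P2 (P3 (P6 p)))))))))))))))))))))
/-- the words of level 5 -/
def wsL5 : List (List Nat) := [[2], [3], [6, 3, 2, 5, 4, 3, 2, 6, 3, 7, 6, 4, 5, 3, 4, 2, 3, 6, 7, 2, 3, 4]]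
noncomputable def hselL5 (c p : Nat) : Nat := Nat.rec (motive := fun _ => Nat) (WL5_0 p) (fun k0 _ => Nat.rec (motive := fun _ => Nat) (WL5_1 p) (fun k1 _ => WL5_2 p) k0) c
noncomputable def labL5 (p : Nat) : Nat := Nat.land (HL5 p) 15
noncomputable def rnkL5 (p : Nat) : Nat := Nat.shiftRight (HL5 p) 8
noncomputable def mvL5 (p : Nat) : Nat := hselL5 (Nat.land (Nat.shiftRight (HL5 p) 4) 15) p
noncomputable def WL6_0 (p : Nat) : Nat := P3 p
/-- the words of level 6 -/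
def wsL6 : List (List Nat) := [[3]]
noncomputable def hselL6 (c p : Nat) : Nat := WL6_0 p
noncomputable def labL6 (p : Nat) : Nat := Nat.land (HL6 p) 15
noncomputable def rnkL6 (p : Nat) : Nat := Nat.shiftRight (HL6 p) 8
noncomputable def mvL6 (p : Nat) : Nat := hselL6 (Nat.land (Nat.shiftRight (HL6 p) 4) 15) p
end Cfsg.Agent.Lib.Helper6.TCD.Y422aL
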