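import Cfsg.Agent.Lib.Helper6.LB1
import Cfsg.Agent.Lib.Helper6.TCD.Y422aL.Lv
set_option autoImplicit false
set_option maxRecDepth 1000000
set_option Elab.async false
open Cfsg.Agent.Lib.Helper6.TC
namespace Cfsg.Agent.Lib.Helper6.TCD.Y422aL
open Cfsg.Agent.Lib.Helper6.TCD.Y422a
theorem chkOrbL5 : chkOrb labL5 rnkL5 mvL5 3 1080 = true := by decide +kernel
theorem cntL5 : cntLab labL5 1 1080 = 9 := by decide +kernel
theorem fixL5_0_0 : Nat.beq (WL5_0 0) 0 = true := by decide +kernel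
theorem fixL5_0_1 : Nat.beq (WL5_0 1) 1 = true := by decide +kernel
theorem fixL5_0_2 : Nat.beq (WL5_0 2) 2 = true := by decide +kernel
theorem fixL5_0_3 : Nat.beq (WL5_0 21) 21 = true := by decide +kernel
theorem fixL5_0_4 : Nat.beq (WL5_0 34) 34 = true := by decide +kernel
theorem fixL5_1_0 : Nat.beq (WL5_1 0) 0 = true := by decide +kernel
theorem fixL5_1_1 : Nat.beq (WL5_1 1) 1 = true := by decide +kernel
theorem fixL5_1_2 : Nat.beq (WL5_1 2) 2 = true := by decide +kernel
theorem fixL5_1_3 : Nat.beq (WL5_1 21) 21 = true := by decide +kernel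
theorem fixL5_1_4 : Nat.beq (WL5_1 34) 34 = true := by decide +kernel
theorem fixL5_2_0 : Nat.beq (WL5_2 0) 0 = true := by decide +kernel
theorem fixL5_2_1 : Nat.beq (WL5_2 1) 1 = true := by decide +kernel
theorem fixL5_2_2 : Nat.beq (WL5_2 2) 2 = true := by decide +kernel
theorem fixL5_2_3 : Nat.beq (WL5_2 21) 21 = true := by decide +kernel
theorem fixL5_2_4 : Nat.beq (WL5_2 34) 34 = true := by decide +kernel
end Cfsg.Agent.Lib.Helper6.TCD.Y422aL
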