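import Cfsg.Agent.Lib.Helper6.LB1
import Cfsg.Agent.Lib.Helper6.TCD.Y422aL.Lv
set_option autoImplicit false
set_option maxRecDepth 1000000
set_option Elab.async false
open Cfsg.Agent.Lib.Helper6.TC
namespace Cfsg.Agent.Lib.Helper6.TCD.Y422aL
open Cfsg.Agent.Lib.Helper6.TCD.Y422a
theorem chkOrbL6 : chkOrb labL6 rnkL6 mvL6 4 1080 = true := by decide +kernel
theorem cntL6 : cntLab labL6 1 1080 = 2 := by decide +kernel
theorem fixL6_0_0 : Nat.beq (WL6_0 0) 0 = true := by decide +kernel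
theorem fixL6_0_1 : Nat.beq (WL6_0 1) 1 = true := by decide +kernel
theorem fixL6_0_2 : Nat.beq (WL6_0 2) 2 = true := by decide +kernel
theorem fixL6_0_3 : Nat.beq (WL6_0 21) 21 = true := by decide +kernel
theorem fixL6_0_4 : Nat.beq (WL6_0 34) 34 = true := by decide +kernel
theorem fixL6_0_5 : Nat.beq (WL6_0 3) 3 = true := by decide +kernel
end Cfsg.Agent.Lib.Helper6.TCD.Y422aL
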